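import Mathlib
import Cfsg.Agent.Lib.Helper19.NatSL2Act

/-!
# Higman's lemma (S3050), project HIG: definitions and matrix identities (helper48)

`F` a field of characteristic 2, `φ : SL(2,F) →* MulAut M` an action on a commutative group.
`ll c` is the lower unitriangular matrix, `FPF φ` says that every element of order 3 of `SL(2,F)`
fixes only `1 : M`.  Matrix identities in characteristic 2 used throughout.
-/

set_option autoImplicit false

namespace Cfsg.Agent.Lib.Helper48.Hig

open Matrix Matrix.SpecialLinearGroup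
open scoped MatrixGroups
open Cfsg.Agent.Lib.Helper19.NatSL2

variable {F : Type*} [Field F]

/-- lower unitriangular matrix -/
def ll (c : F) : SL(2, F) := ⟨!![1, 0; c, 1], by simp [Matrix.det_fin_two_of]⟩

@[simp] theorem ll_coe (c : F) : (ll c : Matrix (Fin 2) (Fin 2) F) = !![1, 0; c, 1] := rfl

/-- every element of order 3 acts fixed-point-freely -/
def FPF {M : Type*} [CommGroup M] (φ : SL(2, F) →* MulAut M) : Prop :=
  ∀ g : SL(2, F), orderOf g = 3 → ∀ m : M, φ g m = m → m = 1

theorem ll_add (s t : F) : ll (s + t) = ll s * ll t := by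
  apply Subtype.ext
  ext i j
  fin_cases i <;> fin_cases j <;> simp [Matrix.mul_apply, Fin.sum_univ_two, add_comm]

theorem ll_zero : ll (0 : F) = 1 := by
  apply Subtype.ext
  ext i j
  fin_cases i <;> fin_cases j <;> simp

section char2

variable [CharP F 2]

theorem neg_eq_self (a : F) : -a = a := CharTwo.neg_eq a

theorem add_self_eq_zero' (a : F) : a + a = 0 := CharTwo.add_self_eq_zero a

theorem hh_neg_one_eq_one : (hh (-1 : Fˣ) : SL(2, F)) = 1 := by
  have h : (-1 : Fˣ) = 1 := by
    apply Units.ext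
    simp [neg_eq_self (1 : F)]
  rw [h, hh_one]

theorem ww_mul_ww : (ww : SL(2, F)) * ww = 1 := by
  rw [ww_ww, hh_neg_one_eq_one]

theorem ww_inv' : (ww : SL(2, F))⁻¹ = ww := by
  rw [inv_eq_iff_mul_eq_one, ww_mul_ww]

theorem uu_mul_self (s : F) : uu s * uu s = 1 := by
  rw [← uu_add, add_self_eq_zero', uu_zero]

theorem ll_mul_self (s : F) : ll s * ll s = 1 := by
  rw [← ll_add, add_self_eq_zero', ll_zero]

theorem ww_uu_ww (c : F) : ww * uu c * ww = ll c := by
  apply Subtype.ext
  ext i j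
  fin_cases i <;> fin_cases j <;> simp [Matrix.mul_apply, Fin.sum_univ_two, neg_eq_self]

theorem ww_ll_ww (c : F) : ww * ll c * ww = uu c := by
  rw [← ww_uu_ww, mul_assoc, mul_assoc, mul_assoc, ww_mul_ww, mul_one, ← mul_assoc, ww_mul_ww, one_mul]

/-- `u(a) l(a⁻¹) u(a) = h(a) w`. -/
theorem uu_ll_uu (a : Fˣ) : uu (a : F) * ll ((a⁻¹ : Fˣ) : F) * uu (a : F) = hh a * ww := by
  apply Subtype.ext
  ext i j
  fin_cases i <;> fin_cases j <;>
    simp [Matrix.mul_apply, Fin.sum_univ_two, neg_eq_self, add_self_eq_zero']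

/-- `(u(a) l(a⁻¹))³ = 1`. -/
theorem zz_cube (a : Fˣ) :
    (uu (a : F) * ll ((a⁻¹ : Fˣ) : F)) * (uu (a : F) * ll ((a⁻¹ : Fˣ) : F)) *
      (uu (a : F) * ll ((a⁻¹ : Fˣ) : F)) = 1 := by
  apply Subtype.ext
  ext i j
  fin_cases i <;> fin_cases j <;>
    simp [Matrix.mul_apply, Fin.sum_univ_two, add_self_eq_zero']

end char2

end Cfsg.Agent.Lib.Helper48.Hig
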