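import Mathlib
import Cfsg.Agent.Lib.Helper48.Hig.Defs

/-!
# Higman's lemma (S3050), project HIG: restricted action, `V0`, and the action on a section (helper48)
-/

set_option autoImplicit false

namespace Cfsg.Agent.Lib.Helper48.Hig

open Matrix Matrix.SpecialLinearGroup
open scoped MatrixGroups
open Cfsg.Agent.Lib.Helper19.NatSL2

section abstract

variable {F : Type*} [Field F] {M : Type*} [CommGroup M] (φ : SL(2, F) →* MulAut M)

/-- `V0 = C_M(U) · w C_M(U)`. -/
def V0 : Subgroup M := fixU φ ⊔ (fixU φ).map (φ ww).toMonoidHom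

theorem mem_V0 {m : M} : m ∈ V0 φ ↔ ∃ w ∈ fixU φ, ∃ w' ∈ fixU φ, m = w * φ ww w' := by
  unfold V0
  rw [Subgroup.mem_sup]
  constructor
  · rintro ⟨y, hy, z, hz, rfl⟩
    obtain ⟨w', hw', rfl⟩ := Subgroup.mem_map.mp hz
    exact ⟨y, hy, w', hw', rfl⟩
  · rintro ⟨w, hw, w', hw', rfl⟩
    exact ⟨w, hw, _, Subgroup.mem_map.mpr ⟨w', hw', rfl⟩, rfl⟩

/-- restriction of the action to an invariant subgroup -/
def resAct (Ω : Subgroup M) (hΩ : ∀ g, ∀ m ∈ Ω, φ g m ∈ Ω) : SL(2, F) →* MulAut Ω where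
  toFun g :=
    { toFun := fun x => ⟨φ g x, hΩ g x x.2⟩
      invFun := fun x => ⟨φ g⁻¹ x, hΩ g⁻¹ x x.2⟩
      left_inv := fun x => by
        apply Subtype.ext
        simp
      right_inv := fun x => by
        apply Subtype.ext
        simp
      map_mul' := fun x y => by
        apply Subtype.ext
        simp }
  map_one' := by
    ext x
    simp
  map_mul' g h := by
    ext x
    simp

@[simp] theorem resAct_coe (Ω : Subgroup M) (hΩ : ∀ g, ∀ m ∈ Ω, φ g m ∈ Ω) (g : SL(2, F)) (x : Ω) :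
    ((resAct φ Ω hΩ g x : Ω) : M) = φ g x := rfl

theorem FPF.resAct {φ : SL(2, F) →* MulAut M} (hf : FPF φ) (Ω : Subgroup M)
    (hΩ : ∀ g, ∀ m ∈ Ω, φ g m ∈ Ω) : FPF (resAct φ Ω hΩ) := by
  intro g hg x hx
  apply Subtype.ext
  exact hf g hg x (by simpa using congrArg Subtype.val hx)

theorem mem_fixU_resAct (Ω : Subgroup M) (hΩ : ∀ g, ∀ m ∈ Ω, φ g m ∈ Ω) (x : Ω) :
    x ∈ fixU (resAct φ Ω hΩ) ↔ (x : M) ∈ fixU φ := by
  constructor
  · intro h s
    simpa using congrArg Subtype.val (h s)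
  · intro h s
    apply Subtype.ext
    simpa using h s

end abstract

section concrete

variable {G : Type*} [Group G] {K : Type*} [Field K]

/-- The action of `SL(2,K) ≅ G/Q` on a normal subgroup `Y` of `G` centralized by `Q`. -/
noncomputable def secAct (Q Y : Subgroup G) [Q.Normal] [Y.Normal]
    (hQY : Q ≤ Subgroup.centralizer (Y : Set G)) (e : G ⧸ Q ≃* SL(2, K)) : SL(2, K) →* MulAut Y :=
  (QuotientGroup.lift Q (MulAut.conjNormal (H := Y)) (by
    intro q hq
    rw [MonoidHom.mem_ker]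
    ext y
    have := hQY hq
    rw [Subgroup.mem_centralizer_iff] at this
    have h1 := this y y.2
    simp only [MulAut.conjNormal_apply, MulAut.one_apply]
    rw [← h1, mul_inv_cancel_right])).comp e.symm.toMonoidHom

theorem secAct_apply (Q Y : Subgroup G) [Q.Normal] [Y.Normal]
    (hQY : Q ≤ Subgroup.centralizer (Y : Set G)) (e : G ⧸ Q ≃* SL(2, K)) (g : G) (y : Y) :
    ((secAct Q Y hQY e (e (g : G ⧸ Q)) y : Y) : G) = g * y * g⁻¹ := by
  simp only [secAct, MonoidHom.coe_comp, MulEquiv.coe_toMonoidHom, Function.comp_apply,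
    MulEquiv.symm_apply_apply]
  rw [QuotientGroup.lift_mk]
  rfl

end concrete

end Cfsg.Agent.Lib.Helper48.Hig
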