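import Mathlib
import Cfsg.Agent.Lib.Helper48.Hig.Act

/-!
# HIG-[KEYID] (helper48): the key identity, in hypothesis form

`key_identity_of`: takes `gen_rel` (HIG-[GEN]) and `fix_inf_ww` (HIG-[V0INV]) as hypotheses.
-/

set_option autoImplicit false

namespace Cfsg.Agent.Lib.Helper48.Hig

open Matrix Matrix.SpecialLinearGroup
open scoped MatrixGroups
open Cfsg.Agent.Lib.Helper19.NatSL2

variable {F : Type*} [Field F] [CharP F 2] {M : Type*} [CommGroup M] (φ : SL(2, F) →* MulAut M)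

omit [CharP F 2] in
/-- `l(t) m = (n(t⁻¹) m)⁻¹ (u(t⁻¹) m)⁻¹`. -/
theorem ll_eq_of
    (hgen : ∀ (c : Fˣ) (m : M), φ (ll (c : F)) m * φ (hh c⁻¹ * ww) m * φ (uu ((c⁻¹ : Fˣ) : F)) m = 1)
    (t : Fˣ) (m : M) :
    φ (ll (t : F)) m = (φ (hh t⁻¹ * ww) m)⁻¹ * (φ (uu ((t⁻¹ : Fˣ) : F)) m)⁻¹ := by
  have h := hgen t m
  rw [mul_assoc] at h
  rw [eq_inv_of_mul_eq_one_left h, mul_inv]

omit [CharP F 2] in
theorem hh_inv_ww (a : Fˣ) : hh a⁻¹ * ww = (ww : SL(2, F)) * hh a := by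
  rw [ww_hh]

theorem key_identity_of
    (hgen : ∀ (c : Fˣ) (m : M), φ (ll (c : F)) m * φ (hh c⁻¹ * ww) m * φ (uu ((c⁻¹ : Fˣ) : F)) m = 1)
    (hfix : ∀ m : M, m ∈ fixU φ → φ ww m ∈ fixU φ → m = 1) (D : Subgroup M)
    (hH : ∀ (t : Fˣ), ∀ d ∈ D, φ (hh t) d ∈ D)
    (hU : ∀ d ∈ D, ∀ s : F, φ (uu s) d / d ∈ fixU φ)
    (hV : ∀ d ∈ D, d ∈ V0 φ → d ∈ fixU φ)
    (c c' : Fˣ) (hcc : (c : F) + c' ≠ 0) {d : M} (hd : d ∈ D) :
    φ (uu ((c : F)⁻¹ + (c' : F)⁻¹ + ((c : F) + c')⁻¹)) d = d⁻¹ := by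
  set c'' : Fˣ := Units.mk0 ((c : F) + c') hcc with hc''
  have hc''v : (c'' : F) = (c : F) + c' := rfl
  -- β
  set β : F → M := fun s => φ (uu s) d / d with hβ
  have hβfix : ∀ s, β s ∈ fixU φ := fun s => hU d hd s
  have hX : ∀ s, φ (uu s) d = β s * d := fun s => by simp [hβ]
  have hβadd : ∀ s s', β (s + s') = β s * β s' := by
    intro s s'
    have h1 : φ (uu (s + s')) d = β s * β s' * d := by
      rw [uu_add, phi_mul, hX s', map_mul, hβfix s' s, hX s]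
      apply Additive.ofMul.injective; simp only [ofMul_mul]; abel
    have h2 := hX (s + s')
    rw [h1] at h2
    exact (mul_right_cancel h2).symm
  have hβsq : ∀ s, β s * β s = 1 := by
    intro s
    have h := hβadd s s
    rw [CharTwo.add_self_eq_zero] at h
    rw [← h]
    simp [hβ, uu_zero]
  have hdd : d * d ∈ fixU φ := by
    intro s
    rw [map_mul, hX s]
    calc β s * d * (β s * d) = (β s * β s) * (d * d) := by
          apply Additive.ofMul.injective; simp only [ofMul_mul]; abel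
      _ = d * d := by rw [hβsq, one_mul]
  -- d' and β'
  set d' := φ (hh c') d with hd'
  have hd'D : d' ∈ D := hH c' d hd
  set β' := φ (uu (c : F)) d' / d' with hβ'
  have hβ'fix : β' ∈ fixU φ := hU d' hd'D _
  have hXd' : φ (uu (c : F)) d' = β' * d' := by simp [hβ']
  -- the six terms
  have E0 : φ (ll (c'' : F)) d = φ (ll (c : F)) (φ (ll (c' : F)) d) := by
    rw [hc''v, ll_add, phi_mul]
  rw [ll_eq_of φ hgen c'' d, ll_eq_of φ hgen c' d, map_mul (φ (ll (c : F))), map_inv (φ (ll (c : F))),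
    map_inv (φ (ll (c : F))), ll_eq_of φ hgen c, ll_eq_of φ hgen c] at E0
  -- evaluate
  have hT1 : φ (hh c⁻¹ * ww) (φ (hh c'⁻¹ * ww) d) = φ (hh (c⁻¹ * c')) d := by
    rw [← phi_mul]
    congr 2
    rw [hh_inv_ww c', ← mul_assoc, mul_assoc (hh c⁻¹), ww_mul_ww, mul_one, hh_mul]
  have hwd' : φ (hh c'⁻¹ * ww) d = φ ww d' := by
    rw [hh_inv_ww, phi_mul]
  have hT3 : φ (uu ((c⁻¹ : Fˣ) : F)) (φ (hh c'⁻¹ * ww) d) =
      (φ (hh (c⁻¹ * c')) d)⁻¹ * (φ ww β')⁻¹ * (φ ww d')⁻¹ := by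
    rw [hwd', ← phi_mul]
    have h1 : uu ((c⁻¹ : Fˣ) : F) * ww = ww * ll ((c⁻¹ : Fˣ) : F) := by
      rw [← ww_uu_ww, ← mul_assoc, ← mul_assoc, ww_mul_ww, one_mul]
    rw [h1, phi_mul, ll_eq_of φ hgen c⁻¹ d', inv_inv, hXd', map_mul (φ ww), map_inv (φ ww),
      map_inv (φ ww), map_mul (φ ww)]
    have h2 : φ ww (φ (hh c * ww) d') = φ (hh (c⁻¹ * c')) d := by
      rw [← phi_mul, hd', ← phi_mul]
      congr 2
      rw [← mul_assoc ww, ww_hh, mul_assoc (hh c⁻¹), ww_mul_ww, mul_one, hh_mul]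
    rw [h2]
    apply Additive.ofMul.injective; simp only [ofMul_mul, ofMul_inv]; abel
  have hT2 : φ (hh c⁻¹ * ww) (φ (uu ((c'⁻¹ : Fˣ) : F)) d) =
      φ ww (φ (hh c) (β ((c'⁻¹ : Fˣ) : F))) * φ ww (φ (hh c) d) := by
    rw [hX, hh_inv_ww, phi_mul, map_mul, map_mul]
  have hT4 : φ (uu ((c⁻¹ : Fˣ) : F)) (φ (uu ((c'⁻¹ : Fˣ) : F)) d) =
      β (((c⁻¹ : Fˣ) : F) + ((c'⁻¹ : Fˣ) : F)) * d := by
    rw [← phi_mul, ← uu_add, hX]
  have hT5 : φ (hh c''⁻¹ * ww) d = φ ww (φ (hh c'') d) := by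
    rw [hh_inv_ww, phi_mul]
  rw [hT1, hT3, hT2, hT4, hT5, hX ((c''⁻¹ : Fˣ) : F)] at E0
  -- A and B
  set e := φ (hh c) d * (φ (hh c') d)⁻¹ * φ (hh c'') d with he
  have heD : e ∈ D := mul_mem (mul_mem (hH c d hd) (inv_mem (hH c' d hd))) (hH c'' d hd)
  set f := φ (hh c) (β ((c'⁻¹ : Fˣ) : F)) * β'⁻¹ with hf'
  have hffix : f ∈ fixU φ := mul_mem (fixU_hh φ (hβfix _) c) (inv_mem hβ'fix)
  set A := d * d * β (((c⁻¹ : Fˣ) : F) + ((c'⁻¹ : Fˣ) : F)) * β ((c''⁻¹ : Fˣ) : F) with hA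
  have hAfix : A ∈ fixU φ := mul_mem (mul_mem hdd (hβfix _)) (hβfix _)
  have hAB : A * φ ww (e * f) = 1 := by
    rw [he, hf', hA]
    simp only [map_mul, map_inv]
    rw [← hd']
    have E1 := E0
    apply Additive.ofMul.injective
    have E2 := congrArg Additive.ofMul E1
    simp only [ofMul_mul, ofMul_inv, ofMul_one] at E2 ⊢
    have : ∀ (a b : Additive M), a = b → b - a = 0 := fun a b h => by rw [h, sub_self]
    have E3 := this _ _ E2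
    rw [← E3]
    abel
  -- e ∈ V0
  have hwwB : φ ww (e * f) = A⁻¹ := eq_inv_of_mul_eq_one_right hAB
  have hef : e * f = φ ww A⁻¹ := by
    rw [← hwwB, ← phi_mul, ww_mul_ww, map_one, MulAut.one_apply]
  have heV0 : e ∈ V0 φ := by
    rw [mem_V0]
    refine ⟨f⁻¹, inv_mem hffix, A⁻¹, inv_mem hAfix, ?_⟩
    rw [← hef]
    apply Additive.ofMul.injective; simp only [ofMul_mul, ofMul_inv]; abel
  have hefix : e ∈ fixU φ := hV e heD heV0
  have hB1 : e * f = 1 :=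
    hfix _ (mul_mem hefix hffix) (by rw [hwwB]; exact inv_mem hAfix)
  have hA1 : A = 1 := by
    rw [hB1, map_one, mul_one] at hAB
    exact hAB
  -- conclusion
  have hs : (c : F)⁻¹ + (c' : F)⁻¹ + ((c : F) + c')⁻¹ =
      (((c⁻¹ : Fˣ) : F) + ((c'⁻¹ : Fˣ) : F)) + ((c''⁻¹ : Fˣ) : F) := by
    simp [hc'']
  rw [hs, hX, hβadd]
  rw [hA] at hA1
  have : β (((c⁻¹ : Fˣ) : F) + ((c'⁻¹ : Fˣ) : F)) * β ((c''⁻¹ : Fˣ) : F) = (d * d)⁻¹ := by
    rw [mul_assoc] at hA1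
    exact eq_inv_of_mul_eq_one_right hA1
  rw [this]
  apply Additive.ofMul.injective; simp only [ofMul_mul, ofMul_inv]; abel

end Cfsg.Agent.Lib.Helper48.Hig
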