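import Mathlib
import Cfsg.Agent.Lib.Helper48.Hig.KeyId
import Cfsg.Agent.Lib.Helper51.HigV0Inv

/-!
# HIG-[KEYID] exact wrapper and HIG-[KEYFIN] `key_lemma` (helper48)
-/

set_option autoImplicit false

namespace Cfsg.Agent.Lib.Helper48.Hig

open Matrix Matrix.SpecialLinearGroup
open scoped MatrixGroups
open Cfsg.Agent.Lib.Helper19.NatSL2
open Cfsg.Agent.Lib.Helper51.Hig

variable {F : Type*} [Field F] [CharP F 2] {M : Type*} [CommGroup M] (φ : SL(2, F) →* MulAut M)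

theorem key_identity (hf : FPF φ) (D : Subgroup M)
    (hH : ∀ (t : Fˣ), ∀ d ∈ D, φ (hh t) d ∈ D)
    (hU : ∀ d ∈ D, ∀ s : F, φ (uu s) d / d ∈ fixU φ)
    (hV : ∀ d ∈ D, d ∈ V0 φ → d ∈ fixU φ)
    (c c' : Fˣ) (hcc : (c : F) + c' ≠ 0) {d : M} (hd : d ∈ D) :
    φ (uu ((c : F)⁻¹ + (c' : F)⁻¹ + ((c : F) + c')⁻¹)) d = d⁻¹ :=
  key_identity_of φ (gen_rel φ hf) (fun _ h1 h2 => fix_inf_ww φ hf h1 h2) D hH hU hV c c' hcc hd

theorem key_lemma (hf : FPF φ) (hr : ∃ r : F, r ≠ 0 ∧ r ≠ 1 ∧ r * r + r + 1 ≠ 0)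
    (D : Subgroup M) (hH : ∀ (t : Fˣ), ∀ d ∈ D, φ (hh t) d ∈ D)
    (hU : ∀ d ∈ D, ∀ s : F, φ (uu s) d / d ∈ fixU φ)
    (hV : ∀ d ∈ D, d ∈ V0 φ → d ∈ fixU φ) : D ≤ fixU φ := by
  obtain ⟨r, hr0, hr1, hr2⟩ := hr
  have hr1' : r + 1 ≠ 0 := by
    intro h
    apply hr1
    have := CharTwo.add_eq_zero.mp h
    exact this
  -- every unit `s` is of the form `1/c + 1/c' + 1/(c+c')`
  have hinv : ∀ (s : F), s ≠ 0 → ∀ d ∈ D, φ (uu s) d = d⁻¹ := by
    intro s hs d hd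
    set c' : F := (r * r + r + 1) / (s * r * (r + 1)) with hc'
    have hc'0 : c' ≠ 0 := div_ne_zero hr2 (mul_ne_zero (mul_ne_zero hs hr0) hr1')
    set c : F := r * c' with hc
    have hc0 : c ≠ 0 := mul_ne_zero hr0 hc'0
    have hcc : c + c' ≠ 0 := by
      have : c + c' = (r + 1) * c' := by rw [hc]; ring
      rw [this]
      exact mul_ne_zero hr1' hc'0
    have h := key_identity φ hf D hH hU hV (Units.mk0 c hc0) (Units.mk0 c' hc'0) hcc hd
    have hs' : ((Units.mk0 c hc0 : Fˣ) : F)⁻¹ + ((Units.mk0 c' hc'0 : Fˣ) : F)⁻¹ +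
        (((Units.mk0 c hc0 : Fˣ) : F) + ((Units.mk0 c' hc'0 : Fˣ) : F))⁻¹ = s := by
      simp only [Units.val_mk0]
      have h2 : (2 : F) = 0 := by
        have := CharTwo.two_eq_zero (R := F)
        exact this
      rw [hc]
      have hden : s * r * (r + 1) ≠ 0 := mul_ne_zero (mul_ne_zero hs hr0) hr1'
      have e1 : (r * c')⁻¹ + c'⁻¹ + (r * c' + c')⁻¹ = c'⁻¹ * ((r * r + r + 1) / (r * (r + 1))) := by
        have hrr : r * (r + 1) ≠ 0 := mul_ne_zero hr0 hr1'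
        have h3 : r * c' + c' = (r + 1) * c' := by ring
        rw [h3]
        field_simp
        have : (1 + r) * (r + 1) + r - (r * (r + 1) + 1) = 2 * r := by ring
        have h0 : (1 + r) * (r + 1) + r - (r * (r + 1) + 1) = 0 := by rw [this, h2, zero_mul]
        exact sub_eq_zero.mp h0
      rw [e1, hc']
      field_simp
      have hne : r * (r + 1) + 1 ≠ 0 := by
        have : r * (r + 1) + 1 = r * r + r + 1 := by ring
        rw [this]; exact hr2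
      exact div_self hne
    rw [hs'] at h
    exact h
  intro d hd
  have hdd : d = d⁻¹ := by
    have h1 := hinv (1 + r) (by rwa [add_comm]) d hd
    rw [uu_add, phi_mul, hinv r hr0 d hd, map_inv, hinv 1 one_ne_zero d hd, inv_inv] at h1
    exact h1
  intro s
  by_cases hs : s = 0
  · subst hs
    rw [uu_zero, map_one, MulAut.one_apply]
  · rw [hinv s hs d hd, ← hdd]

end Cfsg.Agent.Lib.Helper48.Hig
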