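import Mathlib
import Cfsg.Prelude.Def_Transfer
import Cfsg.Prelude.Def_BaumannBlocks
import Cfsg.Agent.Lib.Helper48.Hig.KeyId
import Cfsg.Agent.Lib.Helper51.HigFixExp
import Cfsg.Agent.Lib.Helper50.Hig.PairOf
import Cfsg.Agent.Lib.Helper15.HigFpfsec
import Cfsg.Agent.Lib.Helper42.HigQuot
import Cfsg.Agent.Lib.Helper87.HigCommPair
import Cfsg.Agent.Lib.Helper48.Hig.KeyFin
import Cfsg.Agent.Lib.Helper77.HigElem8
import Cfsg.Agent.Lib.Helper15.HigExp8
import Cfsg.Agent.Lib.Helper44.HigQuadV0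
import Cfsg.Agent.Lib.Helper44.HigRPoly
import Cfsg.Agent.Lib.Helper42.HigDecomp
import Cfsg.Agent.Lib.Helper87.HigConj3
import Cfsg.Agent.Lib.Helper90.HigQ4

/-!
# Higman's lemma (S3050): assembly (helper48)
-/

set_option autoImplicit false

namespace Cfsg.Agent.Lib.Helper48.Hig

open Matrix Matrix.SpecialLinearGroup
open scoped MatrixGroups
open Cfsg.Agent.Lib.Helper19.NatSL2

open Cfsg.Agent.Lib.Helper51.Hig
open scoped IsMulCommutative

section abstract

variable {F : Type*} [Field F] [CharP F 2] {M : Type*} [CommGroup M] (φ : SL(2, F) →* MulAut M)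

/-- HIG-[ELEM8], exact form. -/
theorem eq_V0_of_elem [Finite F] [Finite M] (hf : FPF φ)
    (hr : ∃ r : F, r ≠ 0 ∧ r ≠ 1 ∧ r * r + r + 1 ≠ 0) (hexp : ∀ m : M, m * m = 1) : V0 φ = ⊤ :=
  Cfsg.Agent.Lib.Helper77.Hig.eq_V0_of_elem_of_key φ hf (key_lemma φ hf hr) hexp

/-- HIG-[EXP8], exact form. -/
theorem exp_two [Finite F] [Finite M] (hM : IsPGroup 2 M) (hf : FPF φ)
    (hr : ∃ r : F, r ≠ 0 ∧ r ≠ 1 ∧ r * r + r + 1 ≠ 0) (m : M) : m * m = 1 :=
  Cfsg.Agent.Lib.Helper15.Hig.exp_two_of φ hM hf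
    (fun φ' hf' hexp' => eq_V0_of_elem φ' hf' hr hexp') (key_lemma φ hf hr)
    (fun _ hw => fixU_sq φ hf (Cfsg.Agent.Lib.Helper15.Hig.exists_ab_of_r hr) hw)
    (fun c _ hw => uu_ww_fix φ hf c hw) m

/-- **Theorem M**: a finite abelian 2-group with an `SL(2,F)`-action (`|F| ≥ 4`, char 2) in which the
elements of order 3 act fixed-point-freely has exponent 2 and equals `C(U) · w C(U)`. -/
theorem tm [Finite F] [Finite M] (hM : IsPGroup 2 M) (hf : FPF φ) (hF : 4 ≤ Nat.card F) :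
    (∀ m : M, m * m = 1) ∧ V0 φ = ⊤ := by
  rcases hF.eq_or_lt with h4 | h4
  · -- q = 4
    letI : Fintype F := Fintype.ofFinite F
    have hF4 : Fintype.card F = 4 := by rw [← Nat.card_eq_fintype_card]; exact h4.symm
    have hq : ∀ (m : M) (s : F), φ (uu s) m / m ∈ fixU φ := fun m s =>
      (Cfsg.Agent.Lib.Helper90.Hig.quad_of_card_four φ hF4 hf m s).1
    have hsq : ∀ m : M, m * m ∈ fixU φ := by
      intro m s
      have h := (Cfsg.Agent.Lib.Helper90.Hig.quad_of_card_four φ hF4 hf m s).2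
      rw [map_mul]
      have h2 : φ (uu s) m * φ (uu s) m = (φ (uu s) m / m) * (φ (uu s) m / m) * (m * m) := by
        rw [div_mul_div_comm, div_mul_cancel]
      rw [h2, h, one_mul]
    have hexp : ∀ m : M, m * m = 1 := by
      intro m
      refine fix_inf_ww φ hf (hsq m) ?_
      rw [map_mul]
      exact hsq _
    exact ⟨hexp, Cfsg.Agent.Lib.Helper44.Hig.eq_V0_of_quad φ hf hexp hq⟩
  · have hr := Cfsg.Agent.Lib.Helper44.Hig.exists_r (F := F) h4
    have hexp := exp_two φ hM hf hr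
    exact ⟨hexp, eq_V0_of_elem φ hf hr hexp⟩


/-- HIG-[PAIR], exact form. -/
theorem pairing_trivial {A Z : Type*} [CommGroup A] [CommGroup Z]
    (φA : SL(2, F) →* MulAut A) (φZ : SL(2, F) →* MulAut Z)
    (hfA : FPF φA) (hfZ : FPF φZ) (hF : ∃ b : F, b ≠ 0 ∧ b ≠ 1)
    (hAexp : ∀ a : A, a * a = 1) (hA : V0 φA = ⊤) (hZexp : ∀ z : Z, z * z = 1) (hZ : V0 φZ = ⊤)
    (γ : A → A → Z) (hl : ∀ a b c, γ (a * b) c = γ a c * γ b c)
    (hr : ∀ a b c, γ a (b * c) = γ a b * γ a c) (halt : ∀ a, γ a a = 1)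
    (heq : ∀ g a b, γ (φA g a) (φA g b) = φZ g (γ a b)) (a b : A) : γ a b = 1 :=
  Cfsg.Agent.Lib.Helper50.Hig.pairing_trivial_of φA φZ (fun c w hw => uu_ww_fix φA hfA c hw) (fun c w hw => uu_ww_fix φZ hfZ c hw)
    (fun a b c hab w hw => hh_add_fix φZ hfZ a b c hab hw) (fun m h1 h2 => fix_inf_ww φZ hfZ h1 h2)
    hF hAexp hA hZexp hZ γ hl hr halt heq a b

end abstract

/-- HIG-[FPFSEC], exact form. -/
theorem fpf_secAct {G : Type*} [Group G] [Finite G] {K : Type*} [Field K] [Finite K] [CharP K 2]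
    (Q : Subgroup G) [Q.Normal] (hQ : IsPGroup 2 Q) (e : G ⧸ Q ≃* SL(2, K))
    (x : G) (hx : orderOf x = 3) (hfpf : ∀ q ∈ Q, x * q * x⁻¹ = q → q = 1)
    (Y : Subgroup G) [Y.Normal] [IsMulCommutative ↥Y] (hYQ : Y ≤ Q)
    (hQY : Q ≤ Subgroup.centralizer (Y : Set G)) : FPF (secAct Q Y hQY e) :=
  Cfsg.Agent.Lib.Helper15.Hig.fpf_secAct_of Cfsg.Agent.Lib.Helper87.Hig.conj_of_order_three Q hQ e x hx hfpf Y hYQ hQY

section concrete

universe u v

variable {K : Type v} [Field K] [Finite K] [CharP K 2]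

/-- the center of `Q`, as a subgroup of `G` -/
def zQ {G : Type u} [Group G] (Q : Subgroup G) : Subgroup G := Q ⊓ Subgroup.centralizer (Q : Set G)

instance zQ_normal {G : Type u} [Group G] (Q : Subgroup G) [Q.Normal] : (zQ Q).Normal := by
  unfold zQ
  infer_instance

theorem zQ_le {G : Type u} [Group G] (Q : Subgroup G) : zQ Q ≤ Q := inf_le_left

theorem le_centralizer_zQ {G : Type u} [Group G] (Q : Subgroup G) :
    Q ≤ Subgroup.centralizer (zQ Q : Set G) := by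
  intro q hq
  rw [Subgroup.mem_centralizer_iff]
  intro z hz
  have := (Subgroup.mem_centralizer_iff.mp hz.2) q hq
  exact this.symm

theorem zQ_ne_bot {G : Type u} [Group G] [Finite G] (Q : Subgroup G) (hQ : IsPGroup 2 Q) (hQ1 : Q ≠ ⊥) :
    zQ Q ≠ ⊥ := by
  haveI : Nontrivial Q := (Subgroup.nontrivial_iff_ne_bot Q).mpr hQ1
  haveI : Fact (Nat.Prime 2) := ⟨Nat.prime_two⟩
  haveI := hQ.center_nontrivial
  obtain ⟨z, hz⟩ := exists_ne (1 : Subgroup.center Q)
  intro hbot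
  apply hz
  have hzc := z.2
  rw [Subgroup.mem_center_iff] at hzc
  have : ((z : Q) : G) ∈ zQ Q := by
    refine Subgroup.mem_inf.mpr ⟨(z : Q).2, ?_⟩
    rw [Subgroup.mem_centralizer_iff]
    intro q hq
    have := hzc ⟨q, hq⟩
    exact congrArg Subtype.val this
  rw [hbot, Subgroup.mem_bot] at this
  apply Subtype.ext
  apply Subtype.ext
  exact this

instance zQ_comm {G : Type u} [Group G] (Q : Subgroup G) : IsMulCommutative ↥(zQ Q) := by
  refine ⟨⟨?_⟩⟩
  intro a b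
  apply Subtype.ext
  have := (Subgroup.mem_centralizer_iff.mp a.2.2) b b.2.1
  exact this.symm

/-- If `Q` is abelian then it has exponent 2. -/
theorem exp_of_comm (hK : 4 ≤ Nat.card K) {G : Type u} [Group G] [Finite G] (Q : Subgroup G) [Q.Normal]
    (hQ : IsPGroup 2 Q) (e : G ⧸ Q ≃* SL(2, K)) (x : G) (hx : orderOf x = 3)
    (hfpf : ∀ q ∈ Q, x * q * x⁻¹ = q → q = 1) (hcomm : ∀ a ∈ Q, ∀ b ∈ Q, a * b = b * a) :
    ∀ a ∈ Q, a * a = 1 := by
  haveI : IsMulCommutative ↥Q := ⟨⟨fun a b => Subtype.ext (hcomm a a.2 b b.2)⟩⟩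
  have hQQ : Q ≤ Subgroup.centralizer (Q : Set G) := by
    intro q hq
    rw [Subgroup.mem_centralizer_iff]
    intro b hb
    exact hcomm b hb q hq
  have hf := fpf_secAct Q hQ e x hx hfpf Q le_rfl hQQ
  have h := (tm (secAct Q Q hQQ e) hQ hf hK).1
  intro a ha
  exact congrArg Subtype.val (h ⟨a, ha⟩)

theorem comm_exp_aux (hK : 4 ≤ Nat.card K) (n : ℕ) :
    ∀ (G : Type u) [Group G] [Finite G] (Q : Subgroup G) [Q.Normal] (_ : IsPGroup 2 Q)
      (e : G ⧸ Q ≃* SL(2, K)) (x : G) (_ : orderOf x = 3)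
      (_ : ∀ q ∈ Q, x * q * x⁻¹ = q → q = 1), Nat.card G ≤ n →
      (∀ a ∈ Q, ∀ b ∈ Q, a * b = b * a) ∧ ∀ a ∈ Q, a * a = 1 := by
  induction n with
  | zero =>
    intro G _ _ Q _ hQ e x hx hfpf hn
    exact absurd hn (by have := Nat.card_pos (α := G); omega)
  | succ n ih =>
    intro G _ _ Q _ hQ e x hx hfpf hn
    by_cases hQ1 : Q = ⊥
    · subst hQ1
      constructor
      · intro a ha b hb
        rw [Subgroup.mem_bot] at ha hb
        rw [ha, hb]
      · intro a ha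
        rw [Subgroup.mem_bot] at ha
        rw [ha, one_mul]
    have hZ1 : zQ Q ≠ ⊥ := zQ_ne_bot Q hQ hQ1
    obtain ⟨hnorm, e', he', hQ', hx', hfpf'⟩ :=
      Cfsg.Agent.Lib.Helper42.Hig.exists_quot Q hQ e x hx hfpf (zQ Q) (zQ_le Q)
    haveI := hnorm
    have hcard : Nat.card (G ⧸ zQ Q) ≤ n := by
      have h1 := Subgroup.card_eq_card_quotient_mul_card_subgroup (zQ Q)
      have h2 : 2 ≤ Nat.card (zQ Q) := by
        have := (Subgroup.one_lt_card_iff_ne_bot (zQ Q)).mpr hZ1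
        omega
      have h3 : 0 < Nat.card (G ⧸ zQ Q) := Nat.card_pos
      nlinarith
    obtain ⟨hcomm', hexp'⟩ := ih (G ⧸ zQ Q) (Q.map (QuotientGroup.mk' (zQ Q))) hQ' e' x hx' hfpf' hcard
    -- commutators of Q lie in Z
    have hab : ∀ a ∈ Q, ∀ b ∈ Q, a * b * a⁻¹ * b⁻¹ ∈ zQ Q := by
      intro a ha b hb
      have h := hcomm' (a : G ⧸ zQ Q) (Subgroup.mem_map_of_mem _ ha) (b : G ⧸ zQ Q)
        (Subgroup.mem_map_of_mem _ hb)
      have h2 : ((a * b * a⁻¹ * b⁻¹ : G) : G ⧸ zQ Q) = 1 := by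
        simp only [QuotientGroup.mk_mul, QuotientGroup.mk_inv]
        rw [h, mul_inv_cancel_right, mul_inv_cancel]
      exact (QuotientGroup.eq_one_iff _).mp h2
    obtain ⟨γ, hl, hr, halt, hγ⟩ :=
      Cfsg.Agent.Lib.Helper87.Hig.exists_comm_pairing Q (zQ Q) rfl hab
    -- the two actions
    haveI : IsMulCommutative ↥(Q.map (QuotientGroup.mk' (zQ Q))) :=
      ⟨⟨fun a b => Subtype.ext (hcomm' a a.2 b b.2)⟩⟩
    have hAA : Q.map (QuotientGroup.mk' (zQ Q)) ≤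
        Subgroup.centralizer ((Q.map (QuotientGroup.mk' (zQ Q)) : Subgroup (G ⧸ zQ Q)) : Set (G ⧸ zQ Q)) := by
      intro q hq
      rw [Subgroup.mem_centralizer_iff]
      intro b hb
      exact hcomm' b hb q hq
    have hfA := fpf_secAct (Q.map (QuotientGroup.mk' (zQ Q))) hQ' e' (x : G ⧸ zQ Q) hx' hfpf'
      (Q.map (QuotientGroup.mk' (zQ Q))) le_rfl hAA
    have hfZ := fpf_secAct Q hQ e x hx hfpf (zQ Q) (zQ_le Q) (le_centralizer_zQ Q)
    have hZp : IsPGroup 2 ↥(zQ Q) := hQ.to_le (zQ_le Q)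
    obtain ⟨hAexp, hAV⟩ := tm (secAct (Q.map (QuotientGroup.mk' (zQ Q))) (Q.map (QuotientGroup.mk' (zQ Q))) hAA e')
      hQ' hfA hK
    obtain ⟨hZexp, hZV⟩ := tm (secAct Q (zQ Q) (le_centralizer_zQ Q) e) hZp hfZ hK
    have hFb : ∃ b : K, b ≠ 0 ∧ b ≠ 1 := by
      obtain ⟨a, b, ha, hb, hab⟩ := Cfsg.Agent.Lib.Helper44.Hig.exists_ab (F := K) hK
      by_cases h1 : a = 1
      · refine ⟨b, hb, ?_⟩
        intro hb1
        apply hab
        rw [h1, hb1]
        exact CharTwo.add_self_eq_zero 1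
      · exact ⟨a, ha, h1⟩
    have heq : ∀ (g : SL(2, K)) (a b : ↥(Q.map (QuotientGroup.mk' (zQ Q)))),
        γ (secAct (Q.map (QuotientGroup.mk' (zQ Q))) (Q.map (QuotientGroup.mk' (zQ Q))) hAA e' g a)
          (secAct (Q.map (QuotientGroup.mk' (zQ Q))) (Q.map (QuotientGroup.mk' (zQ Q))) hAA e' g b) =
        secAct Q (zQ Q) (le_centralizer_zQ Q) e g (γ a b) := by
      intro g a b
      obtain ⟨g1, rfl⟩ := e.surjective g
      obtain ⟨g0, rfl⟩ := QuotientGroup.mk_surjective g1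
      obtain ⟨a, ha⟩ := a
      obtain ⟨b, hb⟩ := b
      obtain ⟨a0, ha0, rfl⟩ := Subgroup.mem_map.mp ha
      obtain ⟨b0, hb0, rfl⟩ := Subgroup.mem_map.mp hb
      have key : ∀ (c0 : G) (hc0 : c0 ∈ Q),
          secAct (Q.map (QuotientGroup.mk' (zQ Q))) (Q.map (QuotientGroup.mk' (zQ Q))) hAA e'
            (e (g0 : G ⧸ Q)) ⟨(c0 : G ⧸ zQ Q), Subgroup.mem_map_of_mem _ hc0⟩ =
          ⟨((g0 * c0 * g0⁻¹ : G) : G ⧸ zQ Q), Subgroup.mem_map_of_mem _
            (‹Q.Normal›.conj_mem c0 hc0 g0)⟩ := by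
        intro c0 hc0
        apply Subtype.ext
        rw [← he' g0, secAct_apply]
        rfl
      apply Subtype.ext
      rw [secAct_apply]
      have e1 : secAct (Q.map (QuotientGroup.mk' (zQ Q))) (Q.map (QuotientGroup.mk' (zQ Q))) hAA e'
            (e (g0 : G ⧸ Q)) ⟨(QuotientGroup.mk' (zQ Q)) a0, ha⟩ = _ := key a0 ha0
      have e2 : secAct (Q.map (QuotientGroup.mk' (zQ Q))) (Q.map (QuotientGroup.mk' (zQ Q))) hAA e'
            (e (g0 : G ⧸ Q)) ⟨(QuotientGroup.mk' (zQ Q)) b0, hb⟩ = _ := key b0 hb0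
      rw [e1, e2, hγ _ _ (‹Q.Normal›.conj_mem a0 ha0 g0) (‹Q.Normal›.conj_mem b0 hb0 g0)]
      have e3 : ((γ ⟨(QuotientGroup.mk' (zQ Q)) a0, ha⟩ ⟨(QuotientGroup.mk' (zQ Q)) b0, hb⟩ : zQ Q) : G) = _ :=
        hγ a0 b0 ha0 hb0
      rw [e3]
      group
    have hγ1 := pairing_trivial _ _ hfA hfZ hFb hAexp hAV hZexp hZV γ hl hr halt heq
    have hcomm : ∀ a ∈ Q, ∀ b ∈ Q, a * b = b * a := by
      intro a ha b hb
      have h1 := hγ a b ha hb
      rw [hγ1] at h1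
      have h2 : a * b * a⁻¹ * b⁻¹ = 1 := h1.symm
      calc a * b = (a * b * a⁻¹ * b⁻¹) * (b * a) := by group
        _ = b * a := by rw [h2, one_mul]
    exact ⟨hcomm, exp_of_comm hK Q hQ e x hx hfpf hcomm⟩

end concrete

section final

theorem charP_two_of_card {K : Type*} [Field K] [Fintype K] (n : ℕ) (hn : 1 ≤ n)
    (hK : Fintype.card K = 2 ^ n) : CharP K 2 := by
  obtain ⟨p, hp⟩ := CharP.exists K
  haveI := hp
  obtain ⟨m, hpp, hm⟩ := FiniteField.card K p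
  rw [hK] at hm
  have h2 : p = 2 := by
    have hdvd : p ∣ 2 ^ n := by
      rw [hm]
      exact dvd_pow_self p m.ne_zero
    have := (Nat.Prime.dvd_of_dvd_pow hpp hdvd)
    exact (Nat.prime_dvd_prime_iff_eq hpp Nat.prime_two).mp this
  rw [← h2]
  exact hp

theorem higman {G : Type*} [Group G] [Finite G]
    (Q : Subgroup G) [Q.Normal] (hQ : IsPGroup 2 ↥Q) (n : ℕ) (hn : 2 ≤ n)
    (K : Type*) [Field K] [Fintype K] (hK : Fintype.card K = 2 ^ n)
    (e : G ⧸ Q ≃* Matrix.SpecialLinearGroup (Fin 2) K)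
    (x : G) (hx : orderOf x = 3) (hfpf : ∀ q ∈ Q, x * q * x⁻¹ = q → q = 1) :
    Cfsg.IsElementaryAbelian 2 Q ∧
      ∃ (k : ℕ) (V : Fin k → Subgroup G), (∀ i, V i ≤ Q ∧ (V i).Normal ∧
        Cfsg.ActsAsSL2OnSection K ⊤ ⊤ (V i) ⊥) ∧ iSupIndep V ∧ ⨆ i, V i = Q := by
  haveI : CharP K 2 := charP_two_of_card n (by omega) hK
  have hK4 : 4 ≤ Nat.card K := by
    rw [Nat.card_eq_fintype_card, hK]
    calc 4 = 2 ^ 2 := by norm_num
      _ ≤ 2 ^ n := Nat.pow_le_pow_right (by norm_num) hn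
  obtain ⟨hcomm, hexp⟩ := comm_exp_aux hK4 (Nat.card G) G Q hQ e x hx hfpf le_rfl
  haveI hQc : IsMulCommutative ↥Q := ⟨⟨fun a b => Subtype.ext (hcomm a a.2 b b.2)⟩⟩
  refine ⟨⟨hQc, fun a ha => by rw [pow_two]; exact hexp a ha⟩, ?_⟩
  have hQQ : Q ≤ Subgroup.centralizer (Q : Set G) := by
    intro q hq
    rw [Subgroup.mem_centralizer_iff]
    intro b hb
    exact hcomm b hb q hq
  have hf := fpf_secAct Q hQ e x hx hfpf Q le_rfl hQQ
  obtain ⟨hexp', hV⟩ := tm (secAct Q Q hQQ e) hQ hf hK4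
  obtain ⟨k, V', hV', hind, hsup⟩ :=
    Cfsg.Agent.Lib.Helper42.Hig.exists_decomp (secAct Q Q hQQ e) hf hK4 hexp' hV
  have hinj : Function.Injective Q.subtype := Q.subtype_injective
  refine ⟨k, fun i => (V' i).map Q.subtype, ?_, ?_, ?_⟩
  · intro i
    obtain ⟨hinv, Ψ, hΨ⟩ := hV' i
    have hconj : ∀ (g : G) (v : G), v ∈ (V' i).map Q.subtype → g * v * g⁻¹ ∈ (V' i).map Q.subtype := by
      intro g v hv
      obtain ⟨v', hv', rfl⟩ := Subgroup.mem_map.mp hv
      refine Subgroup.mem_map.mpr ⟨secAct Q Q hQQ e (e (g : G ⧸ Q)) v', hinv _ _ hv', ?_⟩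
      exact secAct_apply Q Q hQQ e g v'
    have hnormal : ((V' i).map Q.subtype).Normal := ⟨fun v hv g => hconj g v hv⟩
    refine ⟨Subgroup.map_subtype_le _, hnormal, ?_⟩
    refine ⟨?_, bot_le, ?_⟩
    · intro g _
      haveI := hnormal
      rw [Subgroup.normalizer_eq_top]
      exact Subgroup.mem_top g
    · let ι := (V' i).equivMapOfInjective Q.subtype hinj
      refine ⟨(e.toMonoidHom.comp (QuotientGroup.mk' Q)).comp (⊤ : Subgroup G).subtype,
        (Ψ.symm.toMonoidHom).comp ι.symm.toMonoidHom, ?_, ?_, ?_, ?_⟩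
      · rw [MonoidHom.range_eq_top]
        intro s
        obtain ⟨g1, rfl⟩ := e.surjective s
        obtain ⟨g0, rfl⟩ := QuotientGroup.mk_surjective g1
        exact ⟨⟨g0, Subgroup.mem_top g0⟩, rfl⟩
      · intro y
        refine ⟨ι (Ψ y), ?_⟩
        simp
      · intro u
        constructor
        · intro h
          have h1 : ι.symm u = 1 := by
            have : Ψ.symm (ι.symm u) = 1 := h
            simpa using this
          have h2 : u = 1 := by simpa using h1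
          rw [h2]
          exact Subgroup.one_mem _
        · intro h
          have h2 : u = 1 := Subtype.ext (Subgroup.mem_bot.mp h)
          rw [h2, map_one]
      · intro g u
        set y := Ψ.symm (ι.symm u) with hy
        have hu : u = ι (Ψ y) := by simp [hy]
        refine ⟨ι (Ψ (Multiplicative.ofAdd (((e ((g : G) : G ⧸ Q) : SL(2, K)) :
          Matrix (Fin 2) (Fin 2) K).mulVec (Multiplicative.toAdd y)))), ?_, ?_⟩
        · have h1 := hΨ (e ((g : G) : G ⧸ Q)) y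
          have h2 : ((ι (Ψ (Multiplicative.ofAdd (((e ((g : G) : G ⧸ Q) : SL(2, K)) :
              Matrix (Fin 2) (Fin 2) K).mulVec (Multiplicative.toAdd y)))) : (V' i).map Q.subtype) : G) =
              (((Ψ (Multiplicative.ofAdd (((e ((g : G) : G ⧸ Q) : SL(2, K)) :
              Matrix (Fin 2) (Fin 2) K).mulVec (Multiplicative.toAdd y))) : V' i) : Q) : G) := rfl
          rw [h2, h1, secAct_apply, hu]
          rfl
        · simp only [MonoidHom.coe_comp, MulEquiv.coe_toMonoidHom, Function.comp_apply,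
            MulEquiv.symm_apply_apply]
          rfl
  · intro i
    rw [disjoint_iff]
    have h1 : (⨆ j, ⨆ (_ : j ≠ i), (V' j).map Q.subtype) = (⨆ j, ⨆ (_ : j ≠ i), V' j).map Q.subtype := by
      rw [Subgroup.map_iSup]
      congr 1
      funext j
      rw [Subgroup.map_iSup]
    rw [h1, ← Subgroup.map_inf _ _ _ hinj, disjoint_iff.mp (hind i), Subgroup.map_bot]
  · rw [← Subgroup.map_iSup, hsup, ← MonoidHom.range_eq_map, Subgroup.range_subtype]


end final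

end Cfsg.Agent.Lib.Helper48.Hig
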